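import Cfsg.Agent.H379.GLB.HC
import Cfsg.Agent.H577.GLB.Clif
import Cfsg.Agent.H112.Clif.Brauer
import Cfsg.Agent.H657.PRational

/-!
# S4536, piece P4: Harish-Chandra restriction of Brauer characters and multiplicities (helper379)

* `hcRes_phi`: the Harish-Chandra restriction of a Brauer character is a sum of Brauer characters;
* `dvd_mult_of`: divisibility of the multiplicities, given Clifford's theorem for the restriction.
-/

set_option autoImplicit false

open Cfsg IsLocalRing Module
open Cfsg.Agent.H657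

namespace Cfsg.Agent.H379.GLB

open Cfsg.Agent.H577.GLB (cj IsRes hcRes)

universe u

variable {V : ValuationSubring ℂ} {p : ℕ} {M : Ideal AlgInt}

section coeff

variable {A : Type u} [Group A] [Finite A]

/-- comparison of coefficients -/
theorem coeff_eq (hM : IsPModular p M) (hV : Above M V) [Fintype (IBr V A)] {a b : IBr V A → ℂ}
    (h : ∀ x : A, IsPRegular p x → ∑ t, a t * phi p t x = ∑ t, b t * phi p t x) (t : IBr V A) :
    a t = b t := by
  have : Fact p.Prime := ⟨hM.1⟩
  have : CharP (ResidueField V) p := hV.charP hM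
  have h1 := Fintype.linearIndependent_iff.1 (linearIndependent_phi (V := V) (G := A) (p := p))
    (fun t => a t - b t) (by
      funext x
      rw [Finset.sum_apply, Pi.zero_apply]
      simp only [Pi.smul_apply, smul_eq_mul, sub_mul, Finset.sum_sub_distrib]
      by_cases hx : IsPRegular p x
      · rw [h x hx, sub_self]
      · rw [Finset.sum_congr rfl fun t _ => show a t * phi p t x = 0 by
            rw [phi_of_not t hx, mul_zero],
          Finset.sum_congr rfl fun t _ => show b t * phi p t x = 0 by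
            rw [phi_of_not t hx, mul_zero]]
        simp) t
  exact sub_eq_zero.1 h1

theorem phi_injective (hM : IsPModular p M) (hV : Above M V) {j j' : IBr V A}
    (h : ∀ x : A, IsPRegular p x → phi p j x = phi p j' x) : j = j' := by
  have : Fact p.Prime := ⟨hM.1⟩
  have : CharP (ResidueField V) p := hV.charP hM
  apply (linearIndependent_phi (V := V) (G := A) (p := p)).injective
  funext x
  by_cases hx : IsPRegular p x
  · exact h x hx
  · simp only [phi_of_not _ hx]

open Classical in
theorem sum_idx [Fintype (IBr V A)] {n : ℕ} (idx : Fin n → IBr V A) (x : A) :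
    ∑ l, phi p (idx l) x =
      ∑ t, ((Finset.univ.filter fun l => idx l = t).card : ℂ) * phi p t x := by
  have h1 : ∀ t, ((Finset.univ.filter fun l => idx l = t).card : ℂ) * phi p t x =
      ∑ l ∈ Finset.univ.filter (fun l => idx l = t), phi p (idx l) x := by
    intro t
    rw [Finset.sum_congr rfl (g := fun _ => phi p t x) (fun l hl => by
      rw [(Finset.mem_filter.1 hl).2]), Finset.sum_const, nsmul_eq_mul]
  rw [Finset.sum_congr rfl fun t _ => h1 t]
  exact (Finset.sum_fiberwise_of_maps_to (fun l _ => Finset.mem_univ (idx l)) _).symm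

/-- the average over `U` -/
theorem exists_mult {G : Type u} [Group G] [Finite G] (hM : IsPModular p M) (hV : Above M V)
    [Fintype (IBr V A)] {U : Subgroup G} [Fintype U] (hU : (Fintype.card U).Coprime p) {f : A →* G}
    (hf : Nz f U) (i : IBr V G) :
    ∃ c : IBr V A → ℕ, ∀ a, IsPRegular p a →
      ∑ u : U, phi p i (f a * u) = (Fintype.card U : ℂ) * ∑ t, (c t : ℂ) * phi p t a := by
  classical
  obtain ⟨n, idx, h⟩ := hc_hom hM hV hU hf i
  exact ⟨fun t => (Finset.univ.filter fun l => idx l = t).card, fun a ha => by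
    rw [h a ha, sum_idx]⟩

end coeff

section main

variable {G : Type u} [Group G] [Finite G]

/-- **P4a: the Harish-Chandra restriction of a Brauer character is a sum of Brauer characters.** -/
theorem hcRes_phi (hM : IsPModular p M) (hV : Above M V) (L U : Subgroup G)
    (hU : (Nat.card U).Coprime p) (hLU : ∀ l ∈ L, ∀ u ∈ U, l * u * l⁻¹ ∈ U) (_hd : Disjoint L U)
    (i : IBr V G) :
    ∃ m : IBr V L → ℕ, ∀ x : L, IsPRegular p x →
      hcRes L U (phi p i) x = ∑ᶠ j, (m j : ℂ) * phi p j x := by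
  classical
  have := Fintype.ofFinite U
  have := Fintype.ofFinite (IBr V L)
  obtain ⟨c, hc⟩ := exists_mult (A := L) hM hV (U := U) (by rwa [← Nat.card_eq_fintype_card])
    (f := L.subtype) (fun l u hu => hLU l l.2 u hu) i
  refine ⟨c, fun x hx => ?_⟩
  have h1 := hc x hx
  have h0 : (Fintype.card U : ℂ) ≠ 0 := Nat.cast_ne_zero.2 Fintype.card_ne_zero
  unfold hcRes
  rw [finsum_eq_sum_of_fintype, finsum_eq_sum_of_fintype, Nat.card_eq_fintype_card, div_eq_iff h0,
    mul_comm]
  exact h1

/-- `p`-regular elements are in a normal subgroup of `p`-power index -/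
theorem mem_of_isPRegular {N : Subgroup G} [N.Normal] (hp : p.Prime) {a : ℕ}
    (hi : Nat.card (G ⧸ N) = p ^ a) {x : G} (hx : IsPRegular p x) : x ∈ N := by
  rw [← QuotientGroup.eq_one_iff, ← orderOf_eq_one_iff]
  have h1 : orderOf (x : G ⧸ N) ∣ p ^ a := hi ▸ orderOf_dvd_natCard _
  have h2 : orderOf (x : G ⧸ N) ∣ orderOf x := orderOf_map_dvd (QuotientGroup.mk' N) x
  obtain ⟨k, -, hk⟩ := (Nat.dvd_prime_pow hp).1 h1
  rcases Nat.eq_zero_or_pos k with rfl | hk0
  · rw [hk, pow_zero]
  · exact absurd ((dvd_pow_self p hk0.ne').trans (hk ▸ h2)) hx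

/-- **P4b, given Clifford's theorem**: `N` normal of `p`-power index with `G = N L`, `U ≤ N`; the Brauer characters of
`L` occurring in the Harish-Chandra restriction of `i` stay irreducible on `L ∩ N`. Then all the multiplicities are
divisible by the number of constituents of `i` on `N`. -/
theorem dvd_mult_of (hM : IsPModular p M) (hV : Above M V) (N : Subgroup G) [N.Normal]
    {a : ℕ} (hi : Nat.card (G ⧸ N) = p ^ a) (L U : Subgroup G)
    (hU : (Nat.card U).Coprime p) (hLU : ∀ l ∈ L, ∀ u ∈ U, l * u * l⁻¹ ∈ U)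
    (hUN : U ≤ N) (hLN : L ⊔ N = ⊤) (i : IBr V G) (O : Finset (IBr V N)) (hO : IsRes p N i O)
    (hcl : ∀ j ∈ O, ∀ j' ∈ O, ∃ g : G, phi p j' = cj N g (phi p j))
    (m : IBr V L → ℕ)
    (hm : ∀ x : L, IsPRegular p x → hcRes L U (phi p i) x = ∑ᶠ j, (m j : ℂ) * phi p j x)
    (hirr : ∀ j, m j ≠ 0 → ∃ j' : IBr V (N.subgroupOf L), IsRes p (N.subgroupOf L) j {j'})
    (j : IBr V L) : O.card ∣ m j := by
  classical
  have hp := hM.1
  have : Fact p.Prime := ⟨hM.1⟩
  have : CharP (ResidueField V) p := hV.charP hM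
  by_cases hmj : m j = 0
  · rw [hmj]
    exact dvd_zero _
  have := Fintype.ofFinite U
  have := Fintype.ofFinite (IBr V L)
  set L' : Subgroup L := N.subgroupOf L with hL'
  have := Fintype.ofFinite (IBr V L')
  let UN : Subgroup N := U.subgroupOf N
  have := Fintype.ofFinite UN
  let f : L' →* N :=
    { toFun := fun x => ⟨(x : L), Subgroup.mem_subgroupOf.1 x.2⟩
      map_one' := rfl
      map_mul' := fun _ _ => rfl }
  let eU : UN ≃* U := Subgroup.subgroupOfEquivOfLe hUN
  have hcU : Fintype.card UN = Fintype.card U := Fintype.card_congr eU.toEquiv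
  have hUNc : (Fintype.card UN).Coprime p := by
    rw [hcU, ← Nat.card_eq_fintype_card]
    exact hU
  have hf : Nz f UN := by
    intro x u hu
    exact hLU (x : L) (x : L).2 (u : G) hu
  have h0 : (Fintype.card U : ℂ) ≠ 0 := Nat.cast_ne_zero.2 Fintype.card_ne_zero
  choose c hc using fun s : IBr V N => exists_mult (A := L') hM hV (U := UN) hUNc hf s
  -- the members of `L` occurring
  have hr : ∀ j : IBr V L, ∃ t : IBr V L', m j ≠ 0 → ∀ x : L', phi p j x = phi p t x := by
    intro j
    by_cases h : m j = 0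
    · obtain ⟨t, -⟩ := hirr _ hmj
      exact ⟨t, fun h' => absurd h h'⟩
    · obtain ⟨t, ht⟩ := hirr j h
      exact ⟨t, fun _ x => by rw [ht x, Finset.sum_singleton]⟩
  choose r hr using hr
  have hmemL : ∀ x : L, IsPRegular p x → x ∈ L' := by
    intro x hx
    rw [hL', Subgroup.mem_subgroupOf]
    refine mem_of_isPRegular hp hi ?_
    unfold IsPRegular at hx ⊢
    rwa [Subgroup.orderOf_coe]
  have hinj : ∀ j₁ j₂, m j₁ ≠ 0 → m j₂ ≠ 0 → r j₁ = r j₂ → j₁ = j₂ := by
    intro j₁ j₂ h1 h2 h
    refine phi_injective hM hV fun x hx => ?_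
    have h3 := hr j₁ h1 ⟨x, hmemL x hx⟩
    have h4 := hr j₂ h2 ⟨x, hmemL x hx⟩
    rw [h] at h3
    exact h3.trans h4.symm
  -- the coefficient of `r j`
  have hcoef : ∀ t : IBr V L', ((∑ j₁ ∈ Finset.univ.filter (fun j₁ => m j₁ ≠ 0 ∧ r j₁ = t), m j₁ : ℕ) : ℂ) =
      ((∑ s ∈ O, c s t : ℕ) : ℂ) := by
    refine coeff_eq hM hV fun x hx => ?_
    have hx' : IsPRegular p (x : L) := by
      unfold IsPRegular at hx ⊢
      rwa [Subgroup.orderOf_coe]
    have h1 := hm x hx'
    unfold hcRes at h1
    rw [finsum_eq_sum_of_fintype, finsum_eq_sum_of_fintype, Nat.card_eq_fintype_card] at h1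
    -- left side
    have h2 : ∑ t, ((∑ j₁ ∈ Finset.univ.filter (fun j₁ => m j₁ ≠ 0 ∧ r j₁ = t), m j₁ : ℕ) : ℂ) * phi p t x =
        ∑ j₁, (m j₁ : ℂ) * phi p j₁ (x : L) := by
      have h3 : ∀ t, ((∑ j₁ ∈ Finset.univ.filter (fun j₁ => m j₁ ≠ 0 ∧ r j₁ = t), m j₁ : ℕ) : ℂ) * phi p t x =
          ∑ j₁ ∈ (Finset.univ.filter fun j₁ => m j₁ ≠ 0).filter (fun j₁ => r j₁ = t),
            (m j₁ : ℂ) * phi p j₁ (x : L) := by
        intro t
        rw [Nat.cast_sum, Finset.sum_mul, Finset.filter_filter]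
        refine Finset.sum_congr rfl fun j₁ hj₁ => ?_
        obtain ⟨-, h4, h5⟩ := Finset.mem_filter.1 hj₁
        rw [hr j₁ h4 x, h5]
      rw [Finset.sum_congr rfl fun t _ => h3 t,
        Finset.sum_fiberwise_of_maps_to (fun l _ => Finset.mem_univ (r l))]
      refine Finset.sum_subset (Finset.filter_subset _ _) fun j₁ _ hj₁ => ?_
      have h4 : m j₁ = 0 := by
        by_contra h4
        exact hj₁ (Finset.mem_filter.2 ⟨Finset.mem_univ _, h4⟩)
      rw [h4, Nat.cast_zero, zero_mul]
    rw [h2, ← h1]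
    -- right side
    have h3 : ∑ u : U, phi p i ((x : L) * u) = ∑ s ∈ O, ∑ u : UN, phi p s (f x * u) := by
      rw [Finset.sum_comm]
      refine Fintype.sum_equiv eU.symm.toEquiv _ _ fun u => ?_
      exact hO (f x * (eU.symm u : UN))
    rw [h3, Finset.sum_congr rfl fun s _ => hc s x hx, ← Finset.mul_sum, hcU,
      mul_div_cancel_left₀ _ h0, Finset.sum_comm]
    refine Finset.sum_congr rfl fun t _ => ?_
    rw [Nat.cast_sum, Finset.sum_mul]
  have hmj' : m j = ∑ s ∈ O, c s (r j) := by
    have h1 := hcoef (r j)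
    have h2 : Finset.univ.filter (fun j₁ => m j₁ ≠ 0 ∧ r j₁ = r j) = {j} := by
      ext j₁
      rw [Finset.mem_filter, Finset.mem_singleton]
      constructor
      · rintro ⟨-, h3, h4⟩
        exact hinj _ _ h3 hmj h4
      · rintro rfl
        exact ⟨Finset.mem_univ _, hmj, rfl⟩
    rw [h2, Finset.sum_singleton] at h1
    exact_mod_cast h1
  -- the multiplicities are the same
  have hsame : ∀ s ∈ O, ∀ s' ∈ O, c s' (r j) = c s (r j) := by
    intro s hs s' hs'
    obtain ⟨g, hg⟩ := hcl s hs s' hs'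
    obtain ⟨l, hl, n, hn, rfl⟩ : ∃ l ∈ L, ∃ n ∈ N, l * n = g := by
      have : g ∈ L ⊔ N := hLN ▸ Subgroup.mem_top g
      rw [Subgroup.mem_sup_of_normal_right] at this
      exact this
    have hN : N.Normal := inferInstance
    have hgs : ∀ x : N, phi p s' x = phi p s ⟨l * x * l⁻¹, hN.conj_mem x x.2 l⟩ := by
      intro x
      rw [hg]
      unfold cj
      have h1 := phi_isClassFunction p s ⟨l * x * l⁻¹, hN.conj_mem x x.2 l⟩
        ⟨l * n * l⁻¹, hN.conj_mem n hn l⟩
      rw [← h1]
      congr 1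
      apply Subtype.ext
      simp only [Subgroup.coe_mul, Subgroup.coe_inv]
      group
    -- conjugation by `l` on `L'`
    have hL'n : L'.Normal := hN.subgroupOf L
    let e : L' ≃* L' := (MulAut.conjNormal (⟨l, hl⟩ : L) : MulAut L').symm
    have he : ∀ x : L', ((e.symm x : L') : L) = ⟨l, hl⟩ * x * (⟨l, hl⟩ : L)⁻¹ := fun x => rfl
    let ψ : UN ≃ UN :=
      { toFun := fun u => ⟨⟨l * (u : N) * l⁻¹, hN.conj_mem _ (u : N).2 l⟩, hLU l hl _ u.2⟩
        invFun := fun u => ⟨⟨l⁻¹ * (u : N) * l, by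
          have := hN.conj_mem _ (u : N).2 l⁻¹
          rwa [inv_inv] at this⟩, by
          have := hLU l⁻¹ (L.inv_mem hl) _ u.2
          rwa [inv_inv] at this⟩
        left_inv := fun u => by
          apply Subtype.ext
          apply Subtype.ext
          show l⁻¹ * (l * ((u : N) : G) * l⁻¹) * l = _
          group
        right_inv := fun u => by
          apply Subtype.ext
          apply Subtype.ext
          show l * (l⁻¹ * ((u : N) : G) * l) * l⁻¹ = _
          group }
    have h3 : ∀ x : L', IsPRegular p x →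
        ∑ t, (c s' t : ℂ) * phi p t x = ∑ t, (c s t : ℂ) * phi p t (e.symm x) := by
      intro x hx
      have hx' : IsPRegular p (e.symm x) := by
        unfold IsPRegular at hx ⊢
        rwa [MulEquiv.orderOf_eq]
      have h4 := hc s' x hx
      have h5 := hc s (e.symm x) hx'
      have h6 : ∑ u : UN, phi p s' (f x * u) = ∑ u : UN, phi p s (f (e.symm x) * u) := by
        refine Fintype.sum_equiv ψ _ _ fun u => ?_
        rw [hgs]
        congr 1
        apply Subtype.ext
        show l * (((x : L) : G) * (u : N)) * l⁻¹ = (l * ((x : L) : G) * l⁻¹) * (l * (u : N) * l⁻¹)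
        group
      rw [hcU] at h4 h5
      exact mul_left_cancel₀ h0 (by rw [← h4, h6, h5])
    have hfix : ∀ t : IBr V L', t.map e = r j ↔ t = r j := by
      have h4 : ∀ x : L', phi p (r j) (e.symm x) = phi p (r j) x := by
        intro x
        rw [← hr j hmj, ← hr j hmj, he]
        exact phi_isClassFunction p j _ _
      intro t
      constructor
      · intro h
        refine phi_injective hM hV fun y _ => ?_
        obtain ⟨x, rfl⟩ := e.symm.surjective y
        rw [← phi_map p e t x, h, h4]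
      · rintro rfl
        refine phi_injective hM hV fun x _ => ?_
        rw [phi_map, h4]
    have h7 := coeff_eq hM hV (a := fun t => (c s' t : ℂ))
      (b := fun t' => ((∑ t ∈ Finset.univ.filter (fun t : IBr V L' => t.map e = t'), c s t : ℕ) : ℂ))
      (fun x hx => by
        rw [h3 x hx]
        have h8 : ∀ t', ((∑ t ∈ Finset.univ.filter (fun t : IBr V L' => t.map e = t'), c s t : ℕ) : ℂ) *
            phi p t' x = ∑ t ∈ Finset.univ.filter (fun t : IBr V L' => t.map e = t'),
              (c s t : ℂ) * phi p t (e.symm x) := by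
          intro t'
          rw [Nat.cast_sum, Finset.sum_mul]
          refine Finset.sum_congr rfl fun t ht => ?_
          rw [← (Finset.mem_filter.1 ht).2, phi_map]
        rw [Finset.sum_congr rfl fun t _ => h8 t]
        exact (Finset.sum_fiberwise_of_maps_to (fun t _ => Finset.mem_univ (IBr.map e t)) _).symm) (r j)
    have h9 : Finset.univ.filter (fun t : IBr V L' => t.map e = r j) = {r j} := by
      ext t
      rw [Finset.mem_filter, Finset.mem_singleton, hfix]
      exact ⟨fun h => h.2, fun h => ⟨Finset.mem_univ _, h⟩⟩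
    simp only [h9, Finset.sum_singleton] at h7
    exact_mod_cast h7
  rcases O.eq_empty_or_nonempty with h | ⟨s, hs⟩
  · rw [hmj', h]
    simp
  · rw [hmj', Finset.sum_congr rfl fun s' hs' => hsame s hs s' hs', Finset.sum_const, smul_eq_mul]
    exact dvd_mul_right _ _

/-- the set of constituents is unique -/
theorem isRes_unique (hM : IsPModular p M) (hV : Above M V) (N : Subgroup G) (i : IBr V G)
    {O O' : Finset (IBr V N)} (h : IsRes p N i O) (h' : IsRes p N i O') : O = O' := by
  classical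
  have := Fintype.ofFinite (IBr V N)
  have h1 : ∀ (O : Finset (IBr V N)) (x : N), ∑ t, (if t ∈ O then (1 : ℂ) else 0) * phi p t x =
      ∑ t ∈ O, phi p t x := by
    intro O x
    simp only [ite_mul, one_mul, zero_mul, Finset.sum_ite_mem, Finset.univ_inter]
  have h2 := coeff_eq hM hV (A := N) (a := fun t => if t ∈ O then (1 : ℂ) else 0)
    (b := fun t => if t ∈ O' then (1 : ℂ) else 0) (fun x _ => by rw [h1, h1, ← h x, ← h' x])
  ext t
  have h3 := h2 t
  by_cases h4 : t ∈ O <;> by_cases h5 : t ∈ O' <;> simp_all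

/-- **P4b**, with the conclusion of Clifford's theorem for `i` as a hypothesis. -/
theorem dvd_mult_of' (hM : IsPModular p M) (hV : Above M V) (N : Subgroup G) [N.Normal]
    {a : ℕ} (hi : Nat.card (G ⧸ N) = p ^ a) (L U : Subgroup G)
    (hU : (Nat.card U).Coprime p) (hLU : ∀ l ∈ L, ∀ u ∈ U, l * u * l⁻¹ ∈ U)
    (hUN : U ≤ N) (hLN : L ⊔ N = ⊤) (i : IBr V G)
    (hP1 : ∃ O : Finset (IBr V N), IsRes p N i O ∧
      ∀ j ∈ O, ∀ j' ∈ O, ∃ g : G, phi p j' = cj N g (phi p j))
    (O : Finset (IBr V N)) (hO : IsRes p N i O) (m : IBr V L → ℕ)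
    (hm : ∀ x : L, IsPRegular p x → hcRes L U (phi p i) x = ∑ᶠ j, (m j : ℂ) * phi p j x)
    (hirr : ∀ j, m j ≠ 0 → ∃ j' : IBr V (N.subgroupOf L), IsRes p (N.subgroupOf L) j {j'})
    (j : IBr V L) : O.card ∣ m j := by
  obtain ⟨O', hO', hcl⟩ := hP1
  obtain rfl := isRes_unique hM hV N i hO hO'
  exact dvd_mult_of hM hV N hi L U hU hLU hUN hLN i O hO hcl m hm hirr j

/-- **P4b.** -/
theorem dvd_mult (hM : IsPModular p M) (hV : Above M V) (N : Subgroup G) [N.Normal]
    (hc : IsCyclic (G ⧸ N)) {a : ℕ} (hi : Nat.card (G ⧸ N) = p ^ a) (L U : Subgroup G)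
    (hU : (Nat.card U).Coprime p) (hLU : ∀ l ∈ L, ∀ u ∈ U, l * u * l⁻¹ ∈ U) (_hd : Disjoint L U)
    (hUN : U ≤ N) (hLN : L ⊔ N = ⊤) (i : IBr V G) (O : Finset (IBr V N)) (hO : IsRes p N i O)
    (m : IBr V L → ℕ)
    (hm : ∀ x : L, IsPRegular p x → hcRes L U (phi p i) x = ∑ᶠ j, (m j : ℂ) * phi p j x)
    (hirr : ∀ j, m j ≠ 0 → ∃ j' : IBr V (N.subgroupOf L), IsRes p (N.subgroupOf L) j {j'})
    (j : IBr V L) : O.card ∣ m j := by
  obtain ⟨O', -, hO', -, hcl⟩ := H112.Clif.clifford_cyclic hM hV N hc i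
  exact dvd_mult_of' hM hV N hi L U hU hLU hUN hLN i ⟨O', hO', hcl⟩ O hO m hm hirr j

end main

end Cfsg.Agent.H379.GLB
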