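import Cfsg.Agent.H699.IBrGen
import Cfsg.Agent.H597.BrInv

/-!
# Harish-Chandra restriction of Brauer characters (helper379)

* `charpoly_mul`, `bc_add`: Brauer characters are additive;
* `fx`, `subRep`, `quoRep`: the fixed points of `U` and the quotient;
* `sum_bc`: `∑ u, bc p σ (y u) = |U| bc p (subRep ..) a`, `f a = y`;
* `hc_hom`: the average over `U` of a Brauer character is a sum of Brauer characters.
-/

set_option autoImplicit false

namespace Cfsg.Agent.H379.GLB

open Cfsg IsLocalRing Module Cfsg.Agent.H657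
open Cfsg.Agent.H699.IBrLift (isCharacter_bc exists_sum_bc)

attribute [local instance] Above.isAlgClosed

section lin

theorem charpoly_mul {K : Type*} [Field K] [Infinite K] {W : Type*} [AddCommGroup W] [Module K W]
    [FiniteDimensional K W] (U : Submodule K W) (f : Module.End K W) (h : U ≤ U.comap f) :
    LinearMap.charpoly f = LinearMap.charpoly (f.restrict h) * LinearMap.charpoly (U.mapQ U f h) := by
  refine Polynomial.funext fun t => ?_
  rw [Polynomial.eval_mul, LinearMap.eval_charpoly, LinearMap.eval_charpoly,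
    LinearMap.eval_charpoly]
  have h' : U ≤ U.comap (algebraMap K (Module.End K W) t - f) := by
    intro w hw
    rw [Submodule.mem_comap, LinearMap.sub_apply, Module.algebraMap_end_apply]
    exact U.sub_mem (U.smul_mem _ hw) (h hw)
  rw [LinearMap.det_eq_det_mul_det U _ h']
  congr 2
  refine LinearMap.ext fun x => ?_
  obtain ⟨x, rfl⟩ := Submodule.mkQ_surjective _ x
  rfl

theorem trace_idem {W : Type*} [AddCommGroup W] [Module ℂ W] [FiniteDimensional ℂ W]
    (P : Module.End ℂ W) (hP : P * P = P) (h : LinearMap.trace ℂ W P = 0) : P = 0 := by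
  have h1 : LinearMap.IsProj (LinearMap.range P) P := by
    refine ⟨fun x => LinearMap.mem_range_self _ _, ?_⟩
    rintro _ ⟨x, rfl⟩
    exact LinearMap.congr_fun hP x
  have h2 := h1.trace
  rw [h] at h2
  have h3 : finrank ℂ (LinearMap.range P) = 0 := by exact_mod_cast h2.symm
  rw [← LinearMap.range_eq_bot]
  exact Submodule.finrank_eq_zero.1 h3

/-- a character whose restriction to `U` has no trivial constituent -/
theorem sum_mul_eq_zero {H : Type*} [Group H] [Finite H] {θ : H → ℂ} (hθ : IsCharacter H θ)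
    (U : Subgroup H) [Fintype U] (h0 : ∑ u : U, θ u = 0) (x : H) : ∑ u : U, θ (x * u) = 0 := by
  obtain ⟨n, ρ, rfl⟩ := hθ
  set e : Module.End ℂ (Fin n → ℂ) := ∑ u : U, ρ u with he
  have hc : (Fintype.card U : ℂ) ≠ 0 := Nat.cast_ne_zero.2 Fintype.card_ne_zero
  have hee : e * e = (Fintype.card U : ℂ) • e := by
    have h1 : ∀ u : U, ρ u * e = e := by
      intro u
      rw [he, Finset.mul_sum]
      refine Fintype.sum_equiv (Equiv.mulLeft u) _ _ fun v => ?_
      rw [Equiv.coe_mulLeft, ← map_mul, Subgroup.coe_mul]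
    conv_lhs => rw [he]
    rw [Finset.sum_mul, Finset.sum_congr rfl fun u _ => h1 u, Finset.sum_const, Finset.card_univ,
      Nat.cast_smul_eq_nsmul]
  have htr : LinearMap.trace ℂ _ e = 0 := by
    rw [he, map_sum]
    exact h0
  have h2 : (Fintype.card U : ℂ)⁻¹ • e = 0 := by
    refine trace_idem _ ?_ ?_
    · rw [smul_mul_smul_comm, hee, smul_smul, mul_assoc, inv_mul_cancel₀ hc, mul_one]
    · rw [map_smul, htr, smul_zero]
  have h3 : e = 0 := (smul_eq_zero.1 h2).resolve_left (inv_ne_zero hc)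
  have h4 : ∑ u : U, ρ.character (x * u) = LinearMap.trace ℂ _ (ρ x * e) := by
    rw [he, Finset.mul_sum, map_sum]
    refine Finset.sum_congr rfl fun u _ => ?_
    rw [← map_mul]
    rfl
  rw [h4, h3, mul_zero, map_zero]

end lin

section rep

variable {K : Type*} [Field K] {G A : Type*} [Group G] [Group A] {W : Type*} [AddCommGroup W]
  [Module K W]

/-- the fixed points of `U` -/
def fx (σ : Representation K G W) (U : Subgroup G) : Submodule K W where
  carrier := {w | ∀ u ∈ U, σ u w = w}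
  add_mem' := fun {a b} ha hb u hu => by rw [map_add, ha u hu, hb u hu]
  zero_mem' := fun u _ => map_zero _
  smul_mem' := fun c a ha u hu => by rw [map_smul, ha u hu]

theorem mem_fx {σ : Representation K G W} {U : Subgroup G} {w : W} :
    w ∈ fx σ U ↔ ∀ u ∈ U, σ u w = w := Iff.rfl

/-- `f` normalizes `U` -/
def Nz (f : A →* G) (U : Subgroup G) : Prop := ∀ a, ∀ u ∈ U, f a * u * (f a)⁻¹ ∈ U

theorem Nz.map_mem {σ : Representation K G W} {U : Subgroup G} {f : A →* G} (hf : Nz f U) (a : A) :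
    fx σ U ≤ (fx σ U).comap (σ (f a)) := by
  intro w hw u hu
  have h1 : (f a)⁻¹ * u * f a ∈ U := by
    have := hf a⁻¹ u hu
    rwa [map_inv, inv_inv] at this
  have h2 : σ u (σ (f a) w) = σ (f a) (σ ((f a)⁻¹ * u * f a) w) := by
    rw [← Module.End.mul_apply, ← Module.End.mul_apply, ← map_mul, ← map_mul]
    congr 2
    group
  rw [h2, hw _ h1]

/-- the action on the fixed points -/
def subRep (σ : Representation K G W) {U : Subgroup G} {f : A →* G} (hf : Nz f U) :
    Representation K A (fx σ U) where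
  toFun a := (σ (f a)).restrict (hf.map_mem (σ := σ) a)
  map_one' := by
    ext w
    simp
  map_mul' a b := by
    ext w
    simp

/-- the action on the quotient -/
def quoRep (σ : Representation K G W) {U : Subgroup G} {f : A →* G} (hf : Nz f U) :
    Representation K A (W ⧸ fx σ U) where
  toFun a := (fx σ U).mapQ (fx σ U) (σ (f a)) (hf.map_mem (σ := σ) a)
  map_one' := by
    ext w
    simp
  map_mul' a b := by
    ext w
    simp

theorem invariants_quoRep (σ : Representation K G W) (U : Subgroup G) [Fintype U]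
    (hU : (Fintype.card U : K) ≠ 0) (hf : Nz U.subtype U) :
    (quoRep σ hf).invariants = ⊥ := by
  rw [eq_bot_iff]
  intro w hw
  obtain ⟨w, rfl⟩ := Submodule.mkQ_surjective _ w
  have h1 : ∀ u : U, σ u w - w ∈ fx σ U := by
    intro u
    have h2 : (quoRep σ hf) u ((fx σ U).mkQ w) = (fx σ U).mkQ w := hw u
    exact (Submodule.Quotient.eq _).1 h2
  rw [Submodule.mem_bot]
  show Submodule.Quotient.mk w = 0
  rw [Submodule.Quotient.mk_eq_zero]
  have h3 : ∑ u : U, σ u w ∈ fx σ U := by
    intro v hv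
    rw [map_sum]
    refine Fintype.sum_equiv (Equiv.mulLeft (⟨v, hv⟩ : U)) _ _ fun u => ?_
    rw [Equiv.coe_mulLeft, Subgroup.coe_mul, map_mul, Module.End.mul_apply]
  have h4 : (Fintype.card U : K) • w ∈ fx σ U := by
    have h5 : (Fintype.card U : K) • w = ∑ u : U, σ u w - ∑ u : U, (σ u w - w) := by
      rw [Finset.sum_sub_distrib, sub_sub_cancel, Finset.sum_const, Finset.card_univ,
        Nat.cast_smul_eq_nsmul]
    rw [h5]
    exact (fx σ U).sub_mem h3 ((fx σ U).sum_mem fun u _ => h1 u)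
  have h6 := (fx σ U).smul_mem (Fintype.card U : K)⁻¹ h4
  rwa [smul_smul, inv_mul_cancel₀ hU, one_smul] at h6

end rep

section grp

variable {G : Type*} [Group G]

/-- the group generated by `y` and a subgroup normalized by `y` -/
def ext (y : G) (U : Subgroup G) (hy : ∀ n : ℤ, ∀ u ∈ U, y ^ n * u * (y ^ n)⁻¹ ∈ U) : Subgroup G where
  carrier := {h | ∃ n : ℤ, ∃ u ∈ U, h = y ^ n * u}
  one_mem' := ⟨0, 1, U.one_mem, by simp⟩
  mul_mem' := by
    rintro _ _ ⟨n, u, hu, rfl⟩ ⟨m, v, hv, rfl⟩
    refine ⟨n + m, (y ^ (-m) * u * (y ^ (-m))⁻¹) * v, U.mul_mem (hy _ _ hu) hv, ?_⟩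
    rw [zpow_add, zpow_neg, inv_inv]
    group
  inv_mem' := by
    rintro _ ⟨n, u, hu, rfl⟩
    refine ⟨-n, y ^ n * u⁻¹ * (y ^ n)⁻¹, hy _ _ (U.inv_mem hu), ?_⟩
    rw [zpow_neg]
    group

theorem zpow_norm {y : G} {U : Subgroup G} (h1 : ∀ u ∈ U, y * u * y⁻¹ ∈ U)
    (h2 : ∀ u ∈ U, y⁻¹ * u * y ∈ U) (n : ℤ) : ∀ u ∈ U, y ^ n * u * (y ^ n)⁻¹ ∈ U := by
  have hpos : ∀ n : ℕ, ∀ u ∈ U, y ^ n * u * (y ^ n)⁻¹ ∈ U := by
    intro n
    induction n with
    | zero => intro u hu; simpa using hu
    | succ n ih =>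
      intro u hu
      have := h1 _ (ih u hu)
      rw [pow_succ']
      convert this using 1
      group
  have hneg : ∀ n : ℕ, ∀ u ∈ U, (y ^ n)⁻¹ * u * y ^ n ∈ U := by
    intro n
    induction n with
    | zero => intro u hu; simpa using hu
    | succ n ih =>
      intro u hu
      have := h2 _ (ih u hu)
      rw [pow_succ]
      convert this using 1
      group
  intro u hu
  obtain ⟨m, rfl | rfl⟩ := n.eq_nat_or_neg
  · rw [zpow_natCast]
    exact hpos m u hu
  · rw [zpow_neg, zpow_natCast, inv_inv]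
    exact hneg m u hu

theorem pow_mem_of_norm {y : G} {U : Subgroup G} (h1 : ∀ u ∈ U, y * u * y⁻¹ ∈ U) {u : G}
    (hu : u ∈ U) (n : ℕ) : ∃ v ∈ U, (u * y) ^ n = v * y ^ n := by
  induction n with
  | zero => exact ⟨1, U.one_mem, by simp⟩
  | succ n ih =>
    obtain ⟨v, hv, h⟩ := ih
    have hpos : ∀ n : ℕ, ∀ u ∈ U, y ^ n * u * (y ^ n)⁻¹ ∈ U := by
      intro n
      induction n with
      | zero => intro u hu; simpa using hu
      | succ n ih =>
        intro u hu
        have := h1 _ (ih u hu)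
        rw [pow_succ']
        convert this using 1
        group
    refine ⟨v * (y ^ n * u * (y ^ n)⁻¹), U.mul_mem hv (hpos n u hu), ?_⟩
    rw [pow_succ, h, pow_succ]
    group

theorem isPRegular_mul [Finite G] {p : ℕ} (hp : p.Prime) {y : G} {U : Subgroup G}
    (hU : (Nat.card U).Coprime p) (h1 : ∀ u ∈ U, y * u * y⁻¹ ∈ U) (hy : IsPRegular p y) {u : G}
    (hu : u ∈ U) : IsPRegular p (y * u) := by
  intro hd
  have h2 : y * u = (y * u * y⁻¹) * y := by group
  rw [h2] at hd
  obtain ⟨v, hv, h3⟩ := pow_mem_of_norm h1 (h1 u hu) (orderOf y)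
  rw [pow_orderOf_eq_one, mul_one] at h3
  have h4 : (y * u * y⁻¹ * y) ^ (orderOf y * Nat.card U) = 1 := by
    rw [pow_mul, h3]
    have : (⟨v, hv⟩ : U) ^ Nat.card U = 1 := pow_card_eq_one'
    exact congrArg Subtype.val this
  have h5 := hd.trans (orderOf_dvd_of_pow_eq_one h4)
  rcases hp.dvd_mul.1 h5 with h6 | h6
  · exact hy h6
  · exact (hp.coprime_iff_not_dvd.1 hU.symm) h6

theorem not_dvd_card_ext [Finite G] {p : ℕ} (hp : p.Prime) {y : G} {U : Subgroup G}
    (hU : (Nat.card U).Coprime p) (hy : IsPRegular p y)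
    (h : ∀ n : ℤ, ∀ u ∈ U, y ^ n * u * (y ^ n)⁻¹ ∈ U) : ¬ p ∣ Nat.card (ext y U h) := by
  intro hd
  have := Fact.mk hp
  obtain ⟨⟨x, n, u, hu, rfl⟩, hx⟩ := exists_prime_orderOf_dvd_card' p hd
  rw [← Subgroup.orderOf_coe] at hx
  have h1 : IsPRegular p (y ^ n) := by
    intro h2
    have h3 : orderOf (y ^ n) ∣ orderOf y := by
      rw [orderOf_dvd_iff_pow_eq_one, ← zpow_natCast, ← zpow_mul, mul_comm, zpow_mul,
        zpow_natCast, pow_orderOf_eq_one, one_zpow]
    exact hy (h2.trans h3)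
  exact isPRegular_mul hp hU (h n) h1 hu (by rw [hx])

end grp

section main

variable {V : ValuationSubring ℂ} {p : ℕ} {M : Ideal AlgInt}

theorem mapQ_congr {K : Type*} [Field K] {W : Type*} [AddCommGroup W] [Module K W] (U : Submodule K W)
    {f g : Module.End K W} (hf : U ≤ U.comap f) (hg : U ≤ U.comap g) (h : f = g) :
    U.mapQ U f hf = U.mapQ U g hg := by
  subst h
  rfl

theorem bc_add [Infinite (ResidueField V)] {G A B W : Type*} [Group G] [Group A] [Group B]
    [AddCommGroup W] [Module (ResidueField V) W] [FiniteDimensional (ResidueField V) W]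
    (σ : Representation (ResidueField V) G W) {U : Subgroup G} {f : A →* G} (hf : Nz f U)
    {f' : B →* G} (hf' : Nz f' U) {g : G} {a : A} {b : B} (ha : f a = g) (hb : f' b = g) :
    bc p σ g = bc p (subRep σ hf) a + bc p (quoRep σ hf') b := by
  unfold bc
  subst ha
  rw [charpoly_mul (fx σ U) (σ (f a)) (hf.map_mem a), Polynomial.roots_mul
    (mul_ne_zero (LinearMap.charpoly_monic _).ne_zero (LinearMap.charpoly_monic _).ne_zero),
    Multiset.map_add, Multiset.sum_add]
  have h : (quoRep σ hf') b = (fx σ U).mapQ (fx σ U) (σ (f a)) (hf.map_mem a) :=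
    mapQ_congr (fx σ U) (hf'.map_mem b) (hf.map_mem a) (by rw [hb])
  rw [h]
  rfl

/-- The average over `U` of the Brauer character of a representation. -/
theorem sum_bc {G A W : Type*} [Group G] [Finite G] [Group A] (hM : IsPModular p M)
    (hV : Above M V) [AddCommGroup W] [Module (ResidueField V) W]
    [FiniteDimensional (ResidueField V) W] (σ : Representation (ResidueField V) G W)
    {U : Subgroup G} [Fintype U] (hU : (Fintype.card U).Coprime p) {f : A →* G} (hf : Nz f U) {a : A}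
    (ha : IsPRegular p (f a)) :
    ∑ u : U, bc p σ (f a * u) = (Fintype.card U : ℂ) * bc p (subRep σ hf) a := by
  have : Fact p.Prime := ⟨hM.1⟩
  have : CharP (ResidueField V) p := hV.charP hM
  have hinf : Infinite (ResidueField V) := IsAlgClosed.instInfinite
  have hU' : (Nat.card U).Coprime p := by rwa [Nat.card_eq_fintype_card]
  set y := f a with hy
  have h1 : ∀ n : ℤ, ∀ u ∈ U, y ^ n * u * (y ^ n)⁻¹ ∈ U := by
    intro n u hu
    have := hf (a ^ n) u hu
    rwa [map_zpow] at this
  let H := ext y U h1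
  have hH : ¬ p ∣ Nat.card H := not_dvd_card_ext hM.1 hU' ha h1
  have hUH : U ≤ H := fun u hu => ⟨0, u, hu, by simp⟩
  have hyH : y ∈ H := ⟨1, 1, U.one_mem, by simp⟩
  have hn : Nz H.subtype U := by
    rintro ⟨x, n, v, hv, rfl⟩ u hu
    have h2 := h1 n _ (U.mul_mem (U.mul_mem hv hu) (U.inv_mem hv))
    show y ^ n * v * u * (y ^ n * v)⁻¹ ∈ U
    convert h2 using 1
    group
  have hn' : Nz U.subtype U := fun v u hu => U.mul_mem (U.mul_mem v.2 hu) (U.inv_mem v.2)
  -- the quotient part
  have hc : (Fintype.card U : ResidueField V) ≠ 0 := by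
    intro h
    have h1 := (CharP.cast_eq_zero_iff (ResidueField V) p _).1 h
    exact (Fact.out : p.Prime).coprime_iff_not_dvd.1 hU.symm h1
  have h0 : ∑ u : U, bc p (quoRep σ hn') u = 0 := by
    rw [H597.BrInv.C hM hV hU (quoRep σ hn'), invariants_quoRep σ U hc hn', finrank_bot,
      Nat.cast_zero, mul_zero]
  have hθ : IsCharacter H (bc p (quoRep σ hn)) := isCharacter_bc hM hV hH (quoRep σ hn)
  have : Fintype (U.subgroupOf H) := Fintype.ofFinite _
  have h2 : ∀ u : U, bc p (quoRep σ hn) ⟨u, hUH u.2⟩ = bc p (quoRep σ hn') u := fun u => rfl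
  have h3 : ∑ u : U.subgroupOf H, bc p (quoRep σ hn) u = 0 := by
    rw [← h0]
    refine Fintype.sum_equiv (Subgroup.subgroupOfEquivOfLe hUH).toEquiv _ _ fun u => ?_
    rfl
  have h4 := sum_mul_eq_zero hθ (U.subgroupOf H) h3 ⟨y, hyH⟩
  have h5 : ∑ u : U, bc p (quoRep σ hn) ⟨y * u, H.mul_mem hyH (hUH u.2)⟩ = 0 := by
    rw [← h4]
    refine Fintype.sum_equiv (Subgroup.subgroupOfEquivOfLe hUH).symm.toEquiv _ _ fun u => ?_
    rfl
  have h6 : ∀ u : U, bc p σ (y * u) = bc p (subRep σ hn) ⟨y * u, H.mul_mem hyH (hUH u.2)⟩ +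
      bc p (quoRep σ hn) ⟨y * u, H.mul_mem hyH (hUH u.2)⟩ := fun u => bc_add σ hn hn rfl rfl
  rw [Finset.sum_congr rfl fun u _ => h6 u, Finset.sum_add_distrib, h5, add_zero]
  have h7 : ∀ u : U, bc p (subRep σ hn) ⟨y * u, H.mul_mem hyH (hUH u.2)⟩ = bc p (subRep σ hf) a := by
    intro u
    have h8 : (subRep σ hn) ⟨y * u, H.mul_mem hyH (hUH u.2)⟩ = (subRep σ hf) a := by
      ext w
      show σ (y * u) w = σ (f a) w
      rw [map_mul, Module.End.mul_apply, w.2 u u.2]
    unfold bc
    rw [h8]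
  rw [Finset.sum_congr rfl fun u _ => h7 u, Finset.sum_const, Finset.card_univ, nsmul_eq_mul]

/-- **The average over `U` of a Brauer character of `G` is a sum of Brauer characters.** -/
theorem hc_hom {G A : Type*} [Group G] [Finite G] [Group A] (hM : IsPModular p M)
    (hV : Above M V) {U : Subgroup G} [Fintype U] (hU : (Fintype.card U).Coprime p) {f : A →* G}
    (hf : Nz f U) (i : IBr V G) :
    ∃ (n : ℕ) (idx : Fin n → IBr V A), ∀ a, IsPRegular p a → 
      ∑ u : U, phi p i (f a * u) = (Fintype.card U : ℂ) * ∑ l, phi p (idx l) a := by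
  have : Fact p.Prime := ⟨hM.1⟩
  have : CharP (ResidueField V) p := hV.charP hM
  have hU' : (Nat.card U).Coprime p := by rwa [Nat.card_eq_fintype_card]
  obtain ⟨n, idx, h⟩ := exists_sum_bc (p := p) (subRep i.rep hf)
  refine ⟨n, idx, fun a ha => ?_⟩
  have hfa : IsPRegular p (f a) := fun h => ha (h.trans (orderOf_map_dvd f a))
  rw [← h a ha, ← sum_bc hM hV i.rep hU hf hfa]
  refine Finset.sum_congr rfl fun u _ => ?_
  exact phi_of i (isPRegular_mul hM.1 hU' (hf a) hfa u.2)

end main

end Cfsg.Agent.H379.GLB
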